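import Mathlib.AlgebraicGeometry.Sites.BigZariski
import Mathlib.AlgebraicGeometry.Limits
import Mathlib.AlgebraicGeometry.Morphisms.QuasiCompact
import Mathlib.CategoryTheory.Limits.VanKampen
import Mathlib.CategoryTheory.Sites.Canonical
import Mathlib.CategoryTheory.MorphismProperty.Limits

/-!
# Topologies generated by a class of morphisms (helpers for S14463 and S14465)

Calculus of finite families `ψ j : V j ⟶ U` with `∐ V j ⟶ U` in a class `C` of morphisms of schemes: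
base change, composition, isomorphisms.
-/

set_option autoImplicit false
universe v u

open CategoryTheory CategoryTheory.Limits AlgebraicGeometry

namespace K159.GenTop

section Families

variable (C : MorphismProperty Scheme.{u})

/-- a finite family with `∐ V j ⟶ U` in `C`: base change along `g : W ⟶ U` -/
theorem desc_pullback [C.IsStableUnderBaseChange] {κ : Type u} [Finite κ] {U W : Scheme.{u}}
    (V : κ → Scheme.{u}) (ψ : ∀ j, V j ⟶ U) (h : C (Limits.Sigma.desc ψ)) (g : W ⟶ U)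
    (P : κ → Scheme.{u}) (q₁ : ∀ j, P j ⟶ W) (q₂ : ∀ j, P j ⟶ V j)
    (hP : ∀ j, IsPullback (q₁ j) (q₂ j) g (ψ j)) :
    C (Limits.Sigma.desc q₁) := by
  have H := IsUniversalColimit.isPullback_of_isColimit_left
    (X := V)
    (FinitaryPreExtensive.isUniversal_finiteCoproducts (coproductIsCoproduct V))
    ψ (Limits.Sigma.desc ψ) g q₁ q₂ hP (coproductIsCoproduct P) (by
      intro i
      simp)
  exact C.of_isPullback H.flip h

/-- composition of finite families -/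
theorem desc_comp [C.IsStableUnderComposition] [C.IsStableUnderBaseChange]
    (hcoprod : ∀ (κ : Type u) [Finite κ] (A B : κ → Scheme.{u}) (f : ∀ j, A j ⟶ B j),
      (∀ j, C (f j)) → C (Limits.Sigma.map f))
    {κ : Type u} [Finite κ] {U : Scheme.{u}}
    (V : κ → Scheme.{u}) (ψ : ∀ j, V j ⟶ U) (h : C (Limits.Sigma.desc ψ))
    (κ' : κ → Type u) [∀ j, Finite (κ' j)] (Z : ∀ j, κ' j → Scheme.{u})
    (χ : ∀ j k, Z j k ⟶ V j) (hχ : ∀ j, C (Limits.Sigma.desc (χ j))) :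
    C (Limits.Sigma.desc fun p : (Σ j, κ' j) ↦ χ p.1 p.2 ≫ ψ p.1) := by
  have h1 : C (Limits.Sigma.map fun j ↦ Limits.Sigma.desc (χ j)) := hcoprod κ _ _ _ hχ
  have h2 := C.comp_mem _ _ h1 h
  have h3 : (Limits.Sigma.desc fun p : (Σ j, κ' j) ↦ χ p.1 p.2 ≫ ψ p.1) =
      (Limits.sigmaSigmaIso κ' Z).inv ≫
        (Limits.Sigma.map fun j ↦ Limits.Sigma.desc (χ j)) ≫ Limits.Sigma.desc ψ := by
    rw [Iso.eq_inv_comp]
    refine Limits.Sigma.hom_ext _ _ fun j ↦ Limits.Sigma.hom_ext _ _ fun k ↦ ?_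
    simp [Limits.sigmaSigmaIso]
  rw [h3]
  exact (C.cancel_left_of_respectsIso _ _).2 h2

/-- Reindexing of finite families along an isomorphism of families. -/
theorem desc_iso [C.IsStableUnderBaseChange] {κ : Type u} {U : Scheme.{u}}
    (V V' : κ → Scheme.{u}) (ψ : ∀ j, V j ⟶ U) (ψ' : ∀ j, V' j ⟶ U)
    (e : ∀ j, V' j ≅ V j) (he : ∀ j, (e j).hom ≫ ψ j = ψ' j)
    (h : C (Limits.Sigma.desc ψ)) : C (Limits.Sigma.desc ψ') := by
  have h3 : Limits.Sigma.desc ψ' = (Limits.Sigma.mapIso e).hom ≫ Limits.Sigma.desc ψ := by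
    refine Limits.Sigma.hom_ext _ _ fun j ↦ ?_
    simp [he]
  rw [h3]
  exact (C.cancel_left_of_respectsIso _ _).2 h

end Families

section Sieves

variable {S : Scheme.{u}}

/-- membership of a scheme morphism to `X` in a sieve on the `S`-scheme `X` -/
def RR {X : Over S} (R : Sieve X) {V : Scheme.{u}} (v : V ⟶ X.left) : Prop :=
  R.arrows (Over.homMk v rfl : Over.mk (v ≫ X.hom) ⟶ X)

theorem RR_left_iff {X : Over S} (R : Sieve X) {V : Over S} (φ : V ⟶ X) :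
    RR R φ.left ↔ R.arrows φ := by
  let e : Over.mk (φ.left ≫ X.hom) ≅ V := Over.isoMk (Iso.refl _) (by simp)
  have he : (Over.homMk φ.left rfl : Over.mk (φ.left ≫ X.hom) ⟶ X) = e.hom ≫ φ := by
    ext
    simp [e]
  rw [RR, he]
  constructor
  · intro h
    have := R.downward_closed h e.inv
    simpa using this
  · intro h
    exact R.downward_closed h _

theorem RR_comp {X : Over S} {R : Sieve X} {V V' : Scheme.{u}} {v : V ⟶ X.left} (h : RR R v)
    (a : V' ⟶ V) : RR R (a ≫ v) := by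
  have := R.downward_closed h
    (Over.homMk a (by simp) : Over.mk ((a ≫ v) ≫ X.hom) ⟶ Over.mk (v ≫ X.hom))
  exact this

theorem RR_pullback_iff {X Y : Over S} (R : Sieve X) (f : Y ⟶ X) {V : Scheme.{u}}
    (v : V ⟶ Y.left) : RR (R.pullback f) v ↔ RR R (v ≫ f.left) := by
  rw [RR, Sieve.pullback_apply, ← RR_left_iff]
  rfl

variable (C : MorphismProperty Scheme.{u})

/-- local covering data over `h : U ⟶ X` -/
def LD {X : Over S} (R : Sieve X) {U : Scheme.{u}} (h : U ⟶ X.left) : Prop :=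
  ∃ (κ : Type u) (_ : Finite κ) (V : κ → Scheme.{u}) (ψ : ∀ j, V j ⟶ U),
    (∀ j, IsAffine (V j)) ∧ (∀ j, RR R (ψ j ≫ h)) ∧ C (Limits.Sigma.desc ψ)

theorem LD_iff {X : Over S} (R : Sieve X) {U : Scheme.{u}} (h : U ⟶ X.left) :
    LD C R h ↔ ∃ (κ : Type u) (_ : Finite κ) (V : κ → Over S) (φ : ∀ j, V j ⟶ X)
          (ψ : ∀ j, (V j).left ⟶ U),
          (∀ j, IsAffine (V j).left) ∧ (∀ j, R.arrows (φ j)) ∧ (∀ j, ψ j ≫ h = (φ j).left) ∧
            C (Limits.Sigma.desc ψ) := by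
  constructor
  · rintro ⟨κ, hκ, V, ψ, hV, hR, hC⟩
    exact ⟨κ, hκ, fun j ↦ Over.mk ((ψ j ≫ h) ≫ X.hom), fun j ↦ Over.homMk (ψ j ≫ h) rfl, ψ,
      hV, hR, fun j ↦ rfl, hC⟩
  · rintro ⟨κ, hκ, V, φ, ψ, hV, hR, hφ, hC⟩
    exact ⟨κ, hκ, fun j ↦ (V j).left, ψ, hV, fun j ↦ by
      rw [hφ j, RR_left_iff]
      exact hR j, hC⟩

/-- the covering sieves -/
def Cov {X : Over S} (R : Sieve X) : Prop :=
  ∃ (ι : Type u) (U : ι → X.left.Opens), (∀ i, IsAffineOpen (U i)) ∧ ⨆ i, U i = ⊤ ∧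
    ∀ i, LD C R (U i).ι

theorem Cov_iff {X : Over S} (R : Sieve X) :
    Cov C R ↔ ∃ (ι : Type u) (U : ι → X.left.Opens), (∀ i, IsAffineOpen (U i)) ∧ ⨆ i, U i = ⊤ ∧
        ∀ i, ∃ (κ : Type u) (_ : Finite κ) (V : κ → Over S) (φ : ∀ j, V j ⟶ X)
          (ψ : ∀ j, (V j).left ⟶ (U i : Scheme.{u})),
          (∀ j, IsAffine (V j).left) ∧ (∀ j, R.arrows (φ j)) ∧ (∀ j, ψ j ≫ (U i).ι = (φ j).left) ∧
            C (Limits.Sigma.desc ψ) := by
  simp only [Cov, LD_iff]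

variable {C}

/-- base change of local covering data along `g : W ⟶ U` with `W`, `U` affine -/
theorem LD.pullback [C.IsStableUnderBaseChange] {X Y : Over S} {R : Sieve X} (f : Y ⟶ X)
    {U W : Scheme.{u}} [IsAffine U] [IsAffine W] {h : U ⟶ X.left} (H : LD C R h)
    (g : W ⟶ U) (h' : W ⟶ Y.left) (hg : g ≫ h = h' ≫ f.left) : LD C (R.pullback f) h' := by
  obtain ⟨κ, hκ, V, ψ, hV, hR, hC⟩ := H
  refine ⟨κ, hκ, fun j ↦ Limits.pullback g (ψ j), fun j ↦ pullback.fst g (ψ j),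
    fun j ↦ inferInstance, fun j ↦ ?_, desc_pullback C V ψ hC g _ _ _
      fun j ↦ IsPullback.of_hasPullback g (ψ j)⟩
  rw [RR_pullback_iff, Category.assoc, ← hg, ← Category.assoc, pullback.condition, Category.assoc]
  exact RR_comp (hR j) _

/-- the identity sieve has local data on affines -/
theorem LD_top (haff : ∀ (U : Scheme.{u}) [IsAffine U] (κ : Type u) [Finite κ] (V : κ → U.Opens),
      (∀ j, IsAffineOpen (V j)) → ⨆ j, V j = ⊤ → C (Limits.Sigma.desc fun j => (V j).ι))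
    {X : Over S} {U : Scheme.{u}} [IsAffine U] {R : Sieve X} (h : U ⟶ X.left) (hR : RR R h) :
    LD C R h := by
  refine ⟨PUnit, inferInstance, fun _ ↦ (⊤ : U.Opens), fun _ ↦ (⊤ : U.Opens).ι,
    fun _ ↦ (isAffineOpen_top U), fun _ ↦ RR_comp hR _, ?_⟩
  exact haff U PUnit (fun _ ↦ ⊤) (fun _ ↦ isAffineOpen_top U) (by simp)

/-- An affine scheme with an open cover indexed by a type in `Type u` has a finite subcover. -/
theorem exists_finite_subcover {V : Scheme.{u}} [CompactSpace V] {ι : Type u} (W : ι → V.Opens)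
    (hW : ⨆ i, W i = ⊤) : ∃ (κ : Type u) (_ : Finite κ) (t : κ → ι), ⨆ k, W (t k) = ⊤ := by
  obtain ⟨t, ht⟩ := isCompact_univ.elim_finite_subcover (fun i ↦ (W i : Set V))
    (fun i ↦ (W i).2) (by
      have := congrArg (fun U : V.Opens ↦ (U : Set V)) hW
      simp only [TopologicalSpace.Opens.coe_iSup, TopologicalSpace.Opens.coe_top] at this
      rw [this])
  refine ⟨t, inferInstance, fun k ↦ k.1, ?_⟩
  apply TopologicalSpace.Opens.ext
  rw [TopologicalSpace.Opens.coe_iSup]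
  refine Set.eq_univ_of_univ_subset (ht.trans ?_)
  intro x hx
  simp only [Set.mem_iUnion] at hx ⊢
  obtain ⟨i, hi, hx⟩ := hx
  exact ⟨⟨i, hi⟩, hx⟩

/-- a covering sieve on an affine has local data over the identity -/
theorem LD_of_Cov [C.IsStableUnderComposition] [C.IsStableUnderBaseChange]
    (hcoprod : ∀ (κ : Type u) [Finite κ] (A B : κ → Scheme.{u}) (f : ∀ j, A j ⟶ B j),
      (∀ j, C (f j)) → C (Limits.Sigma.map f))
    (haff : ∀ (U : Scheme.{u}) [IsAffine U] (κ : Type u) [Finite κ] (V : κ → U.Opens),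
      (∀ j, IsAffineOpen (V j)) → ⨆ j, V j = ⊤ → C (Limits.Sigma.desc fun j => (V j).ι))
    {Y : Over S} [IsAffine Y.left] {R : Sieve Y} (H : Cov C R) :
    LD C R (𝟙 Y.left) := by
  obtain ⟨ι, W, hW, hW', H⟩ := H
  obtain ⟨κ, hκ, t, ht⟩ := exists_finite_subcover W hW'
  choose κ' hκ' Z χ hZ hR hC using fun k ↦ H (t k)
  refine ⟨Σ k, κ' k, inferInstance, fun p ↦ Z p.1 p.2, fun p ↦ χ p.1 p.2 ≫ (W (t p.1)).ι,
    fun p ↦ hZ _ _, fun p ↦ ?_, ?_⟩
  · rw [Category.comp_id]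
    exact hR _ _
  · exact desc_comp C hcoprod (fun k ↦ (W (t k) : Scheme.{u})) (fun k ↦ (W (t k)).ι)
      (haff _ _ _ (fun k ↦ hW _) ht) κ' Z χ hC

theorem LD.bind [C.IsStableUnderComposition] [C.IsStableUnderBaseChange]
    (hcoprod : ∀ (κ : Type u) [Finite κ] (A B : κ → Scheme.{u}) (f : ∀ j, A j ⟶ B j),
      (∀ j, C (f j)) → C (Limits.Sigma.map f))
    (haff : ∀ (U : Scheme.{u}) [IsAffine U] (κ : Type u) [Finite κ] (V : κ → U.Opens),
      (∀ j, IsAffineOpen (V j)) → ⨆ j, V j = ⊤ → C (Limits.Sigma.desc fun j => (V j).ι))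
    {X : Over S} {R R' : Sieve X} {U : Scheme.{u}} {h : U ⟶ X.left} (H : LD C R h)
    (H' : ∀ ⦃Y : Over S⦄ ⦃f : Y ⟶ X⦄, R.arrows f → Cov C (R'.pullback f)) : LD C R' h := by
  obtain ⟨κ, hκ, V, ψ, hV, hR, hC⟩ := H
  have H1 : ∀ j, LD C (R'.pullback
      (Over.homMk (ψ j ≫ h) rfl : Over.mk ((ψ j ≫ h) ≫ X.hom) ⟶ X)) (𝟙 (V j)) := fun j ↦ by
    have : IsAffine (Over.mk ((ψ j ≫ h) ≫ X.hom)).left := hV j
    exact LD_of_Cov (Y := Over.mk ((ψ j ≫ h) ≫ X.hom)) hcoprod haff (H' (hR j))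
  choose κ' hκ' Z χ hZ hR' hC' using H1
  refine ⟨Σ k, κ' k, inferInstance, fun p ↦ Z p.1 p.2, fun p ↦ χ p.1 p.2 ≫ ψ p.1,
    fun p ↦ hZ _ _, fun p ↦ ?_, ?_⟩
  · have := hR' p.1 p.2
    rw [RR_pullback_iff] at this
    simpa using this
  · exact desc_comp C hcoprod V ψ hC κ' Z χ hC'

variable (C) (S)

/-- the topology generated by `C` (affine-locally) -/
def topology [C.IsStableUnderComposition] [C.IsStableUnderBaseChange]
    (hcoprod : ∀ (κ : Type u) [Finite κ] (A B : κ → Scheme.{u}) (f : ∀ j, A j ⟶ B j),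
      (∀ j, C (f j)) → C (Limits.Sigma.map f))
    (haff : ∀ (U : Scheme.{u}) [IsAffine U] (κ : Type u) [Finite κ] (V : κ → U.Opens),
      (∀ j, IsAffineOpen (V j)) → ⨆ j, V j = ⊤ → C (Limits.Sigma.desc fun j => (V j).ι)) :
    GrothendieckTopology (Over S) where
  sieves X := {R | Cov C R}
  top_mem' X := by
    refine ⟨X.left.affineOpens, fun U ↦ U.1, fun U ↦ U.2, iSup_affineOpens_eq_top X.left,
      fun U ↦ ?_⟩
    have := U.2
    have : IsAffine (U.1 : Scheme.{u}) := U.2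
    exact LD_top haff _ trivial
  pullback_stable' X Y R f H := by
    obtain ⟨ι, U, hU, hU', H⟩ := H
    refine ⟨Σ i, {W : Y.left.affineOpens // W.1 ≤ f.left ⁻¹ᵁ (U i)}, fun p ↦ p.2.1.1,
      fun p ↦ p.2.1.2, ?_, fun p ↦ ?_⟩
    · rw [eq_top_iff]
      intro y _
      have hy : f.left y ∈ (⊤ : X.left.Opens) := trivial
      rw [← hU', TopologicalSpace.Opens.mem_iSup] at hy
      obtain ⟨i, hi⟩ := hy
      obtain ⟨W, hW, hyW, hWi⟩ := TopologicalSpace.Opens.isBasis_iff_nbhd.1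
        Y.left.isBasis_affineOpens (show y ∈ f.left ⁻¹ᵁ (U i) from hi)
      rw [TopologicalSpace.Opens.mem_iSup]
      exact ⟨⟨i, ⟨W, hW⟩, hWi⟩, hyW⟩
    · have : IsAffine (U p.1 : Scheme.{u}) := hU p.1
      have : IsAffine (p.2.1.1 : Scheme.{u}) := p.2.1.2
      refine (H p.1).pullback f (IsOpenImmersion.lift (U p.1).ι (p.2.1.1.ι ≫ f.left) ?_) _ ?_
      · rintro _ ⟨x, rfl⟩
        simp only [Scheme.Opens.range_ι, SetLike.mem_coe, Scheme.Hom.comp_apply]
        exact p.2.2 x.2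
      · rw [IsOpenImmersion.lift_fac]
  transitive' X R H R' H' := by
    obtain ⟨ι, U, hU, hU', H⟩ := H
    exact ⟨ι, U, hU, hU', fun i ↦ (H i).bind hcoprod haff H'⟩

end Sieves

end K159.GenTop
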