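import Groth.Agent.BigSite.K159.GenTop
import Mathlib.CategoryTheory.Sites.Over

/-!
# Sheaves for the topology generated by a class of morphisms (helpers for S14465)
-/

set_option autoImplicit false
universe v u

open CategoryTheory CategoryTheory.Limits AlgebraicGeometry

namespace K159.GenTop

variable {S : Scheme.{u}}

/-- membership in the big Zariski topology on `S`-schemes -/
theorem mem_zar_iff {X : Over S} (R : Sieve X) :
    R ∈ Scheme.zariskiTopology.over S X ↔ ∀ x : X.left, ∃ W : X.left.Opens, x ∈ W ∧ RR R W.ι := by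
  rw [GrothendieckTopology.mem_over_iff, Scheme.mem_grothendieckTopology_iff]
  constructor
  · rintro ⟨𝒰, h⟩ x
    obtain ⟨i, y, hy⟩ := 𝒰.exists_eq x
    have : IsOpenImmersion (𝒰.f i) := 𝒰.map_prop i
    refine ⟨(𝒰.f i).opensRange, ⟨y, hy⟩, ?_⟩
    have h1 : (Sieve.overEquiv X R).arrows (𝒰.f i) := h _ _ (Presieve.ofArrows.mk i)
    rw [Sieve.overEquiv_iff] at h1
    have h2 : (𝒰.f i).opensRange.ι = (𝒰.f i).isoOpensRange.inv ≫ 𝒰.f i := by simp
    rw [h2]
    exact RR_comp h1 _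
  · intro h
    choose W hW hR using h
    let 𝒰 : X.left.OpenCover := X.left.openCoverOfIsOpenCover W
      (eq_top_iff.2 fun x _ ↦ TopologicalSpace.Opens.mem_iSup.2 ⟨x, hW x⟩)
    refine ⟨𝒰, ?_⟩
    rintro _ _ ⟨i⟩
    show (Sieve.overEquiv X R).arrows _
    rw [Sieve.overEquiv_iff]
    exact hR i

theorem RR_mono {X : Over S} {R : Sieve X} {W W' : X.left.Opens} (h : RR R W.ι) (hW : W' ≤ W) :
    RR R W'.ι := by
  rw [← X.left.homOfLE_ι hW]
  exact RR_comp h _

variable (C : MorphismProperty Scheme.{u})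

theorem Cov_of_mem_zar 
    (haff : ∀ (U : Scheme.{u}) [IsAffine U] (κ : Type u) [Finite κ] (V : κ → U.Opens),
      (∀ j, IsAffineOpen (V j)) → ⨆ j, V j = ⊤ → C (Limits.Sigma.desc fun j => (V j).ι))
    {X : Over S} {R : Sieve X} (hR : R ∈ Scheme.zariskiTopology.over S X) : Cov C R := by
  rw [mem_zar_iff] at hR
  refine ⟨{W : X.left.affineOpens // RR R W.1.ι}, fun W ↦ W.1.1, fun W ↦ W.1.2, ?_, fun W ↦ ?_⟩
  · rw [eq_top_iff]
    intro x _
    obtain ⟨W, hxW, hW⟩ := hR x
    obtain ⟨W', hW', hyW, hWi⟩ := TopologicalSpace.Opens.isBasis_iff_nbhd.1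
        X.left.isBasis_affineOpens hxW
    rw [TopologicalSpace.Opens.mem_iSup]
    exact ⟨⟨⟨W', hW'⟩, RR_mono hW hWi⟩, hyW⟩
  · have : IsAffine (W.1.1 : Scheme.{u}) := W.1.2
    exact LD_top haff _ W.2

theorem Cov_singleton [C.IsStableUnderBaseChange]
    (hqc : ∀ {A B : Scheme.{u}} (f : A ⟶ B), C f → QuasiCompact f)
    (hres : ∀ (W X' : Scheme.{u}) [IsAffine W] (f : X' ⟶ W), C f →
      ∀ (κ : Type u) [Finite κ] (A : κ → X'.Opens), (∀ l, IsAffineOpen (A l)) → ⨆ l, A l = ⊤ →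
        C (Limits.Sigma.desc fun l => (A l).ι ≫ f))
    {X X' : Over S} (f : X' ⟶ X) (hf : C f.left) :
    Cov C (Sieve.generate (Presieve.singleton f)) := by
  refine ⟨X.left.affineOpens, fun U ↦ U.1, fun U ↦ U.2, iSup_affineOpens_eq_top X.left,
      fun U ↦ ?_⟩
  have : IsAffine (U.1 : Scheme.{u}) := U.2
  have h1 : C (f.left ∣_ U.1) := C.of_isPullback (isPullback_morphismRestrict f.left U.1).flip hf
  have := hqc _ h1
  have : CompactSpace (f.left ⁻¹ᵁ U.1 : Scheme.{u}) := QuasiCompact.compactSpace_of_compactSpace (f.left ∣_ U.1)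
  obtain ⟨κ, hκ, t, ht⟩ := exists_finite_subcover
    (fun W : (f.left ⁻¹ᵁ U.1 : Scheme.{u}).affineOpens ↦ W.1) (iSup_affineOpens_eq_top _)
  refine ⟨κ, hκ, fun k ↦ ((t k).1 : Scheme.{u}), fun k ↦ (t k).1.ι ≫ f.left ∣_ U.1,
    fun k ↦ (t k).2, fun k ↦ ?_, hres _ _ _ h1 κ (fun k ↦ (t k).1) (fun k ↦ (t k).2) ht⟩
  rw [Category.assoc, morphismRestrict_ι, ← Category.assoc]
  refine RR_comp ?_ _
  rw [RR_left_iff]
  exact Sieve.le_generate _ _ _ (Presieve.singleton.mk (f := f))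

/-- the sieves generated by a single morphism in `C` are in the topology `J_F` -/
theorem singleton_mem [C.IsStableUnderBaseChange] (F : (Over S)ᵒᵖ ⥤ Type v)
    (hF : ∀ (X X' : Over S) (f : X' ⟶ X), C f.left → Presieve.IsSheafFor F (Presieve.singleton f))
    {X X' : Over S} (f : X' ⟶ X) (hf : C f.left) :
    Sieve.generate (Presieve.singleton f) ∈ Sheaf.finestTopologySingle F X := by
  intro Y g
  let P : Over S := Over.mk (pullback.fst g.left f.left ≫ Y.hom)
  let pr : P ⟶ Y := Over.homMk (pullback.fst g.left f.left) rfl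
  have h : (Sieve.generate (Presieve.singleton f)).pullback g =
      Sieve.generate (Presieve.singleton pr) := by
    ext Z a
    rw [Sieve.pullback_apply]
    constructor
    · rintro ⟨_, b, _, ⟨⟩, hb⟩
      refine ⟨P, Over.homMk (pullback.lift a.left b.left ?_) ?_, pr, ⟨⟩, ?_⟩
      · rw [← Over.comp_left, ← Over.comp_left, hb]
      · simp only [P, Over.mk_hom]
        rw [← Category.assoc, pullback.lift_fst, Over.w]
      · ext1
        exact pullback.lift_fst _ _ _
    · rintro ⟨_, b, _, ⟨⟩, hb⟩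
      refine ⟨X', b ≫ Over.homMk (pullback.snd g.left f.left) ?_, f, ⟨⟩, ?_⟩
      · simp only [P, Over.mk_hom]
        rw [← Over.w f, ← Over.w g, ← Category.assoc, ← Category.assoc, pullback.condition]
      · rw [← hb]
        ext
        simp [pr, pullback.condition]
  rw [h, ← Presieve.isSheafFor_iff_generate]
  exact hF _ _ pr (C.pullback_fst _ _ hf)

theorem zar_le (F : (Over S)ᵒᵖ ⥤ Type v) (hF : Presieve.IsSheaf (Scheme.zariskiTopology.over S) F) :
    Scheme.zariskiTopology.over S ≤ Sheaf.finestTopologySingle F := by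
  intro X R hR Y f
  exact hF _ (GrothendieckTopology.pullback_stable _ f hR)

/-- covering sieves are in `J_F` -/
theorem mem_of_Cov [C.IsStableUnderBaseChange] (F : (Over S)ᵒᵖ ⥤ Type v)
    (hz : Presieve.IsSheaf (Scheme.zariskiTopology.over S) F)
    (hF : ∀ (X X' : Over S) (f : X' ⟶ X), C f.left → Presieve.IsSheafFor F (Presieve.singleton f))
    {X : Over S} {R : Sieve X} (hR : Cov C R) : R ∈ Sheaf.finestTopologySingle F X := by
  obtain ⟨ι, U, hU, hU', H⟩ := hR
  -- the Zariski covering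
  let R₀ : Sieve X := Sieve.ofArrows (fun i ↦ Over.mk ((U i).ι ≫ X.hom))
    (fun i ↦ Over.homMk (U i).ι rfl)
  have hR₀ : R₀ ∈ Sheaf.finestTopologySingle F X := by
    apply zar_le F hz
    rw [mem_zar_iff]
    intro x
    have hx : x ∈ (⊤ : X.left.Opens) := trivial
    rw [← hU', TopologicalSpace.Opens.mem_iSup] at hx
    obtain ⟨i, hi⟩ := hx
    exact ⟨U i, hi, Sieve.ofArrows_mk _ _ i⟩
  refine GrothendieckTopology.transitive _ hR₀ R ?_
  intro Y g hg
  obtain ⟨_, a, b, ⟨i⟩, rfl⟩ := hg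
  rw [Sieve.pullback_comp]
  refine GrothendieckTopology.pullback_stable _ _ ?_
  obtain ⟨κ, hκ, V, ψ, hV, hR, hC⟩ := H i
  -- the single morphism `∐ V j ⟶ U i`
  let Z : Over S := Over.mk (Limits.Sigma.desc ψ ≫ (U i).ι ≫ X.hom)
  let q : Z ⟶ Over.mk ((U i).ι ≫ X.hom) := Over.homMk (Limits.Sigma.desc ψ) rfl
  refine GrothendieckTopology.transitive _ (singleton_mem C F hF q hC) _ ?_
  intro Y' g' hg'
  obtain ⟨_, a', b', ⟨⟩, rfl⟩ := hg'
  rw [Sieve.pullback_comp]
  refine GrothendieckTopology.pullback_stable _ _ ?_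
  apply zar_le F hz
  rw [mem_zar_iff]
  intro x
  obtain ⟨j, y, hy⟩ := (sigmaOpenCover V).exists_eq x
  refine ⟨(Limits.Sigma.ι V j).opensRange, ⟨y, hy⟩, ?_⟩
  have h2 : (Limits.Sigma.ι V j).opensRange.ι =
    (Limits.Sigma.ι V j).isoOpensRange.inv ≫ Limits.Sigma.ι V j := by simp
  rw [h2]
  refine RR_comp ?_ _
  rw [RR_pullback_iff, RR_pullback_iff]
  have := hR j
  simpa [q] using this

end K159.GenTop
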