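import Groth.Agent.Etrest.BigPush
import Groth.Prelude.Def_BigSite
import Groth.Prelude.Def_EtBCD
import Groth.Prelude.Def_SGA4b

/-!
# Direct images of sheaves of sets on the big étale site and base change

The analogue for sheaves of sets of `Groth.Agent.Etrest.BigPush`:
* `compS f F : a_Y⁻¹ f_* F ⟶ f_{big,*} a_X⁻¹ F`;
* `compS_bc`: the restriction of `compS f F` to the small étale site of `T ⟶ Y` is the base change
  morphism `EtBC.baseChange0Sh`;
* `isIso_compS`.
-/

set_option autoImplicit false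
universe w u
open CategoryTheory CategoryTheory.Limits AlgebraicGeometry Opposite

noncomputable section

namespace K159.PushSet

open Groth.Agent.Etrest Groth.Agent.Etrest.BigEtSite Groth.Agent.Etrest.BigPush

/-- Sheaves of sets on the big étale site of `X`. -/
abbrev ShE (X : Scheme.{u}) : Type (u + 2) := Sheaf (JE X) (Type (u + 1))

/-- inverse image from the small étale site to the big étale site. -/
abbrev aPullS (X : Scheme.{u}) : EtDesc.Sh X ⥤ ShE X :=
  (EtFppf.a X).sheafPullback (Type (u + 1)) X.smallEtaleTopology (JE X)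

/-- Restriction from the big to the small étale site. -/
abbrev aPushS (X : Scheme.{u}) : ShE X ⥤ EtDesc.Sh X :=
  (EtFppf.a X).sheafPushforwardContinuous (Type (u + 1)) X.smallEtaleTopology (JE X)

/-- The adjunction. -/
abbrev aAdjS (X : Scheme.{u}) : aPullS X ⊣ aPushS X :=
  (EtFppf.a X).sheafAdjunctionContinuous (Type (u + 1)) X.smallEtaleTopology (JE X)

/-- Restriction from the big étale site of `S` to the small étale site of `T` -/
abbrev uResS {T S : Scheme.{u}} (f : T ⟶ S) : ShE S ⥤ EtDesc.Sh T :=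
  (uf f).sheafPushforwardContinuous (Type (u + 1)) T.smallEtaleTopology (JE S)

/-- The inverse image `f⁻¹ F` is the restriction of `a⁻¹ F` (big étale site) to the small étale site
of `T`. -/
def pullIsoS {T S : Scheme.{u}} (f : T ⟶ S) : EtDesc.pullSh f ≅ aPullS S ⋙ uResS f :=
  RanExact.pullbackIso _ _ _ _ (projNat f) _ _ _ (isRelAdj f)

variable {X Y : Scheme.{u}} (f : X ⟶ Y)

/-- Direct image on big étale sites. -/
abbrev pushBigS : ShE X ⥤ ShE Y :=
  (Over.pullback f).sheafPushforwardContinuous (Type (u + 1)) (JE Y) (JE X)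

theorem aPushS_pushBigS (H : ShE X) : 
    (aPushS Y).obj ((pushBigS f).obj H) = (EtDesc.pushSh f).obj ((aPushS X).obj H) := rfl

/-- Comparison morphism `a_Y⁻¹ f_* F ⟶ f_{big,*} a_X⁻¹ F`. -/
def compS (F : EtDesc.Sh X) : (aPullS Y).obj ((EtDesc.pushSh f).obj F) ⟶
    (pushBigS f).obj ((aPullS X).obj F) :=
  ((aAdjS Y).homEquiv _ _).symm ((EtDesc.pushSh f).map ((aAdjS X).unit.app F))

theorem unit_compS (F : EtDesc.Sh X) : 
    (aAdjS Y).unit.app ((EtDesc.pushSh f).obj F) ≫ (aPushS Y).map (compS f F) = 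
      (EtDesc.pushSh f).map ((aAdjS X).unit.app F) := by
  have := ((aAdjS Y).homEquiv ((EtDesc.pushSh f).obj F) 
    ((pushBigS f).obj ((aPullS X).obj F))).apply_symm_apply
      ((EtDesc.pushSh f).map ((aAdjS X).unit.app F))
  rw [Adjunction.homEquiv_unit] at this
  exact this

section BC

variable {T X' : Scheme.{u}} {t : T ⟶ Y} {f' : X' ⟶ T} {t' : X' ⟶ X} 

/-- `(f_{big,*} H)|_T ⟶ f'_* (H|_{X'})`. -/
def kappaS (w : t' ≫ f = f' ≫ t) : pushBigS f ⋙ uResS t ⟶ uResS t' ⋙ EtDesc.pushSh f' where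
  app H := ⟨Functor.whiskerRight (NatTrans.op (sigmaHom f w)) H.obj⟩
  naturality H H' φ := by
    apply (sheafToPresheaf _ _).map_injective
    exact ((Functor.whiskeringLeft _ _ (Type (u + 1))).map (NatTrans.op (sigmaHom f w))).naturality φ.hom

theorem isIso_kappaS_app (hp : IsPullback t' f' f t) (H : ShE X) : IsIso ((kappaS f hp.w).app H) := by
  have : IsIso ((sheafToPresheaf _ _).map ((kappaS f hp.w).app H)) := by
    have : ∀ V, IsIso (((sheafToPresheaf _ _).map ((kappaS f hp.w).app H)).app V) := by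
      intro V
      have := isIso_sigmaHom_app f hp V.unop
      exact inferInstanceAs (IsIso (H.obj.map ((sigmaHom f hp.w).app V.unop).op))
    exact NatIso.isIso_of_isIso_app _
  exact isIso_of_reflects_iso _ (sheafToPresheaf _ _)

/-- restriction map `a_{Y,*} H ⟶ t_* (H|_T)`. -/
abbrev rhoS {T Y : Scheme.{u}} (t : T ⟶ Y) : aPushS Y ⟶ uResS t ⋙ EtDesc.pushSh t :=
  RanExact.rho _ _ _ _ (projNat t) _ _ _

theorem unit_pullIsoS {T Y : Scheme.{u}} (t : T ⟶ Y) (F : EtDesc.Sh Y) :
    (EtDesc.adjSh t).unit.app F ≫ (EtDesc.pushSh t).map ((pullIsoS t).hom.app F) =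
      (aAdjS Y).unit.app F ≫ (rhoS t).app ((aPullS Y).obj F) :=
  RanExact.unit_pullbackIso _ _ _ _ (projNat t) _ _ _ (isRelAdj t) F

/-- Key compatibility of restriction maps. -/
theorem rho_kappaS (w : t' ≫ f = f' ≫ t) (H : ShE X) :
    (rhoS t).app ((pushBigS f).obj H) ≫ (EtDesc.pushSh t).map ((kappaS f w).app H) = 
      (EtDesc.pushSh f).map ((rhoS t').app H) ≫ (EtDesc.pushCompSh f t').hom.app ((uResS t').obj H) ≫
        (EtBC.pushCongrSh w).hom.app ((uResS t').obj H) ≫
          (EtDesc.pushCompSh t f').inv.app ((uResS t').obj H) := by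
  apply (sheafToPresheaf _ _).map_injective
  apply NatTrans.ext
  ext1 V
  have h := congrArg (fun k => H.obj.map k.op) (over_key f w V.unop)
  exact Eq.trans (H.obj.map_comp _ _).symm (h.trans (map_aux H.obj (uf t') _ _ _ _))

/-- The composite of composition isomorphisms. -/
abbrev swapIsoS (w : t' ≫ f = f' ≫ t) :
    EtDesc.pushSh t' ⋙ EtDesc.pushSh f ⟶ EtDesc.pushSh f' ⋙ EtDesc.pushSh t :=
  (EtDesc.pushCompSh f t').hom ≫ (EtBC.pushCongrSh w).hom ≫ (EtDesc.pushCompSh t f').inv

theorem unit_baseChange0Sh (w : t' ≫ f = f' ≫ t) (F : EtDesc.Sh X) :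
    (EtDesc.adjSh t).unit.app ((EtDesc.pushSh f).obj F) ≫ 
      (EtDesc.pushSh t).map (EtBC.baseChange0Sh f t f' t' w F) = 
    (EtDesc.pushSh f).map ((EtDesc.adjSh t').unit.app F) ≫
      (swapIsoS f w).app ((EtDesc.pullSh t').obj F) := by
  have := ((EtDesc.adjSh t).homEquiv ((EtDesc.pushSh f).obj F) 
    ((EtDesc.pushSh f').obj ((EtDesc.pullSh t').obj F))).apply_symm_apply 
      ((EtDesc.pushSh f).map ((EtDesc.adjSh t').unit.app F) ≫ (EtDesc.pushCompSh f t').hom.app _ ≫
      (EtBC.pushCongrSh w).hom.app _ ≫ (EtDesc.pushCompSh t f').inv.app _)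
  rw [Adjunction.homEquiv_unit] at this
  exact this

theorem rho_kappaS' (w : t' ≫ f = f' ≫ t) (H : ShE X) :
    (rhoS t).app ((pushBigS f).obj H) ≫ (EtDesc.pushSh t).map ((kappaS f w).app H) = 
      (EtDesc.pushSh f).map ((rhoS t').app H) ≫ (swapIsoS f w).app ((uResS t').obj H) := 
  rho_kappaS f w H

/-- The restriction of `compS f F` to the small étale site of `T` is the base change morphism. -/
theorem compS_bc (w : t' ≫ f = f' ≫ t) (F : EtDesc.Sh X) :
    (pullIsoS t).hom.app ((EtDesc.pushSh f).obj F) ≫ (uResS t).map (compS f F) ≫ 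
      (kappaS f w).app ((aPullS X).obj F) = 
    EtBC.baseChange0Sh f t f' t' w F ≫ (EtDesc.pushSh f').map ((pullIsoS t').hom.app F) := by
  apply ((EtDesc.adjSh t).homEquiv _ _).injective
  have hL : (EtDesc.adjSh t).unit.app ((EtDesc.pushSh f).obj F) ≫ (EtDesc.pushSh t).map 
      ((pullIsoS t).hom.app ((EtDesc.pushSh f).obj F) ≫ (uResS t).map (compS f F) ≫ 
      (kappaS f w).app ((aPullS X).obj F)) = 
      (EtDesc.pushSh f).map ((aAdjS X).unit.app F) ≫
        (EtDesc.pushSh f).map ((rhoS t').app ((aPullS X).obj F)) ≫ 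
        (swapIsoS f w).app ((uResS t').obj ((aPullS X).obj F)) := by
    rw [CategoryTheory.Functor.map_comp, CategoryTheory.Functor.map_comp, ← Category.assoc]
    refine (congrArg (fun k => k ≫ _) (unit_pullIsoS t ((EtDesc.pushSh f).obj F))).trans ?_
    refine (Category.assoc _ _ _).trans ?_
    have h1 := (rhoS t).naturality (compS f F)
    refine (congrArg (fun k => _ ≫ k) ((Category.assoc _ _ _).symm.trans 
      (congrArg (fun k => k ≫ _) h1.symm))).trans ?_
    refine (congrArg (fun k => _ ≫ k) (Category.assoc _ _ _)).trans ?_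
    refine (Category.assoc _ _ _).symm.trans ?_
    exact congrArg₂ (fun k l => k ≫ l) (unit_compS f F) (rho_kappaS' f w ((aPullS X).obj F))
  have hR : (EtDesc.adjSh t).unit.app ((EtDesc.pushSh f).obj F) ≫ (EtDesc.pushSh t).map 
      (EtBC.baseChange0Sh f t f' t' w F ≫ (EtDesc.pushSh f').map ((pullIsoS t').hom.app F)) = 
      (EtDesc.pushSh f).map ((aAdjS X).unit.app F) ≫
        (EtDesc.pushSh f).map ((rhoS t').app ((aPullS X).obj F)) ≫ 
        (swapIsoS f w).app ((uResS t').obj ((aPullS X).obj F)) := by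
    rw [CategoryTheory.Functor.map_comp, ← Category.assoc]
    refine (congrArg (fun k => k ≫ _) (unit_baseChange0Sh f w F)).trans ?_
    refine (Category.assoc _ _ _).trans ?_
    have h1 := (swapIsoS f w).naturality ((pullIsoS t').hom.app F)
    refine (congrArg (fun k => _ ≫ k) h1.symm).trans ?_
    refine (Category.assoc _ _ _).symm.trans ?_
    refine (congrArg (fun k => k ≫ _) ((CategoryTheory.Functor.map_comp _ _ _).symm.trans 
      ((congrArg (EtDesc.pushSh f).map (unit_pullIsoS t' F)).trans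
        (CategoryTheory.Functor.map_comp _ _ _)))).trans ?_
    exact Category.assoc _ _ _
  rw [Adjunction.homEquiv_unit, Adjunction.homEquiv_unit]
  exact hL.trans hR.symm

end BC

theorem isIso_uResS_compS {T X' : Scheme.{u}} {t : T ⟶ Y} {f' : X' ⟶ T} {t' : X' ⟶ X} 
    (hp : IsPullback t' f' f t) (F : EtDesc.Sh X)
    (h : IsIso (EtBC.baseChange0Sh f t f' t' hp.w F)) : 
    IsIso ((uResS t).map (compS f F)) := by
  have h1 := compS_bc f hp.w F
  have h2 : IsIso ((kappaS f hp.w).app ((aPullS X).obj F)) := isIso_kappaS_app f hp _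
  have h3 : IsIso (EtBC.baseChange0Sh f t f' t' hp.w F ≫
    (EtDesc.pushSh f').map ((pullIsoS t').hom.app F)) := inferInstance
  rw [← h1] at h3
  have h4 : IsIso ((uResS t).map (compS f F) ≫ (kappaS f hp.w).app ((aPullS X).obj F)) := 
    IsIso.of_isIso_comp_left ((pullIsoS t).hom.app ((EtDesc.pushSh f).obj F)) _
  exact IsIso.of_isIso_comp_right ((uResS t).map (compS f F))
    ((kappaS f hp.w).app ((aPullS X).obj F))

/-- `(uf t).obj top ≅ Over.mk t`. -/
def ufTop {T Y : Scheme.{u}} (t : T ⟶ Y) : (uf t).obj (EtCoh.top T) ≅ Over.mk t :=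
  Over.isoMk (Iso.refl _) (by
      change 𝟙 T ≫ t = 𝟙 T ≫ t
      rfl)

theorem isIso_of_uResS {Y : Scheme.{u}} {H H' : ShE Y} (φ : H ⟶ H') 
    (h : ∀ (T : Scheme.{u}) (t : T ⟶ Y), IsIso ((uResS t).map φ)) : IsIso φ := by
  have : IsIso ((sheafToPresheaf _ _).map φ) := by
    have : ∀ V, IsIso (((sheafToPresheaf _ _).map φ).app V) := by
      intro V
      have h1 := h V.unop.left V.unop.hom
      have h2 : IsIso (((sheafToPresheaf _ _).map ((uResS V.unop.hom).map φ)).app
        (op (EtCoh.top V.unop.left))) := inferInstance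
      have h3 : IsIso (φ.hom.app (op ((uf V.unop.hom).obj (EtCoh.top V.unop.left)))) := h2
      have h4 := φ.hom.naturality (ufTop V.unop.hom).hom.op
      have h5 : IsIso (H.obj.map (ufTop V.unop.hom).hom.op ≫
        φ.hom.app (op ((uf V.unop.hom).obj (EtCoh.top V.unop.left)))) := inferInstance
      rw [h4] at h5
      exact IsIso.of_isIso_comp_right (φ.hom.app (op (Over.mk V.unop.hom)))
        (H'.obj.map (ufTop V.unop.hom).hom.op)
    exact NatIso.isIso_of_isIso_app _
  exact isIso_of_reflects_iso _ (sheafToPresheaf _ _)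

theorem isIso_compS (F : EtDesc.Sh X) 
    (h : ∀ (T X' : Scheme.{u}) (t : T ⟶ Y) (f' : X' ⟶ T) (t' : X' ⟶ X) (hp : IsPullback t' f' f t), 
      IsIso (EtBC.baseChange0Sh f t f' t' hp.w F)) : IsIso (compS f F) := by
  apply isIso_of_uResS
  intro T t
  exact isIso_uResS_compS f (IsPullback.of_hasPullback f t) F 
    (h _ _ _ _ _ (IsPullback.of_hasPullback f t))

/-- The comparison `π_S⁻¹ f_* ⟶ f_{big,*} π_T⁻¹`, as a natural transformation. -/
def compSNat : EtDesc.pushSh f ⋙ aPullS Y ⟶ aPullS X ⋙ pushBigS f where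
  app F := compS f F
  naturality F G φ := by
    apply ((aAdjS Y).homEquiv _ _).injective
    rw [Adjunction.homEquiv_unit, Adjunction.homEquiv_unit, Functor.map_comp, Functor.map_comp]
    have h1 := (aAdjS Y).unit.naturality ((EtDesc.pushSh f).map φ)
    have h2 := unit_compS f F
    have h3 := unit_compS f G
    have h4 := congrArg (EtDesc.pushSh f).map ((aAdjS X).unit.naturality φ)
    rw [Functor.map_comp, Functor.map_comp] at h4
    have e1 : (aAdjS Y).unit.app ((EtDesc.pushSh f).obj F) ≫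
        (aPushS Y).map ((aPullS Y).map ((EtDesc.pushSh f).map φ)) ≫ (aPushS Y).map (compS f G) =
        (EtDesc.pushSh f).map φ ≫ (EtDesc.pushSh f).map ((aAdjS X).unit.app G) := by
      rw [← h3]
      exact (Category.assoc _ _ _).symm.trans ((congrArg (fun k => k ≫ _) h1.symm).trans
        (Category.assoc _ _ _))
    have e2 : (aAdjS Y).unit.app ((EtDesc.pushSh f).obj F) ≫ (aPushS Y).map (compS f F) ≫
        (aPushS Y).map ((pushBigS f).map ((aPullS X).map φ)) =
        (EtDesc.pushSh f).map ((aAdjS X).unit.app F) ≫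
          (EtDesc.pushSh f).map ((aPushS X).map ((aPullS X).map φ)) := by
      rw [← h2]
      exact (Category.assoc _ _ _).symm
    exact e1.trans (h4.trans e2.symm)

/-- the comparison isomorphism when base change holds for `f`. -/
def compSIso (h : ∀ (F : EtDesc.Sh X) (T X' : Scheme.{u}) (t : T ⟶ Y) (f' : X' ⟶ T) (t' : X' ⟶ X)
      (hp : IsPullback t' f' f t), IsIso (EtBC.baseChange0Sh f t f' t' hp.w F)) :
    EtDesc.pushSh f ⋙ aPullS Y ≅ aPullS X ⋙ pushBigS f :=
  haveI : ∀ F, IsIso ((compSNat f).app F) := fun F => isIso_compS f F (h F)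
  haveI := NatIso.isIso_of_isIso_app (compSNat f)
  asIso (compSNat f)

end K159.PushSet
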